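import Mathlib
import Groth.Prelude.Def_CAlg
import Groth.Agent.SerreLib.R0S1

/-!
# Algebraic properties of homogeneous localizations at homogeneous primes

The degree zero part `A_(p)` of the localization of an ℕ-graded ring at a homogeneous prime is
Noetherian, inherits normality, and inherits Serre's condition (S₁) when `p` is relevant.
-/

universe u

open DirectSum HomogeneousLocalization

set_option linter.style.haveILetI false

namespace Groth.Agent.ProjStalkLib

variable {A : Type u} [CommRing A] (𝒜 : ℕ → AddSubgroup A) [GradedRing 𝒜]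

theorem proj_mul_right (a : A) {m : ℕ} {b : A} (hb : b ∈ 𝒜 m) (k : ℕ) :
    (decompose 𝒜 (a * b) (k + m) : A) = (decompose 𝒜 a k : A) * b :=
  coe_decompose_mul_add_of_right_mem 𝒜 hb

theorem exists_component_not_mem (I : Ideal A) {a : A} (ha : a ∉ I) :
    ∃ k, (decompose 𝒜 a k : A) ∉ I := by
  classical
  by_contra! h
  refine ha ?_
  rw [← DirectSum.sum_support_decompose 𝒜 a]
  exact I.sum_mem fun k _ => h k

/-- If `S * U = E * W` with `U`, `W` homogeneous of the same degree and `S ∉ I`, the same holds with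
`S`, `E` replaced by homogeneous elements of one degree. -/
theorem exists_homogeneous_mul_eq (I : Ideal A) {S E U W : A} {m : ℕ} (hS : S ∉ I)
    (hU : U ∈ 𝒜 m) (hW : W ∈ 𝒜 m) (h : S * U = E * W) :
    ∃ (k : ℕ) (s e : A), s ∈ 𝒜 k ∧ e ∈ 𝒜 k ∧ s ∉ I ∧ s * U = e * W := by
  obtain ⟨k, hk⟩ := exists_component_not_mem 𝒜 I hS
  exact ⟨k, _, _, SetLike.coe_mem _, SetLike.coe_mem _, hk, by
    rw [← proj_mul_right 𝒜 S hU k, ← proj_mul_right 𝒜 E hW k, h]⟩

section

variable (M : Submonoid A)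

/-- The map `A_(M) → M⁻¹A` as a ring homomorphism. -/
def valHom : HomogeneousLocalization 𝒜 M →+* Localization M := algebraMap _ _

theorem valHom_injective : Function.Injective (valHom 𝒜 M) :=
  HomogeneousLocalization.val_injective M

theorem valHom_eq (z : HomogeneousLocalization 𝒜 M) :
    valHom 𝒜 M z = IsLocalization.mk' (Localization M) z.num ⟨z.den, z.den_mem⟩ := by
  rw [← Localization.mk_eq_mk']
  exact z.eq_num_div_den

variable {M}

/-- The element `a / b`. -/
def frac {d : ℕ} {a b : A} (ha : a ∈ 𝒜 d) (hb : b ∈ 𝒜 d) (hM : b ∈ M) :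
    HomogeneousLocalization 𝒜 M := HomogeneousLocalization.mk ⟨d, ⟨a, ha⟩, ⟨b, hb⟩, hM⟩

theorem valHom_frac {d : ℕ} {a b : A} (ha : a ∈ 𝒜 d) (hb : b ∈ 𝒜 d) (hM : b ∈ M) :
    valHom 𝒜 M (frac 𝒜 ha hb hM) = IsLocalization.mk' (Localization M) a ⟨b, hM⟩ := by
  rw [← Localization.mk_eq_mk']
  exact HomogeneousLocalization.val_mk _

variable (M)

/-- `A_(M)` is Noetherian if `A` is. -/
theorem isNoetherianRing [IsNoetherianRing A] : IsNoetherianRing (HomogeneousLocalization 𝒜 M) := by
  classical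
  refine (isNoetherianRing_iff_ideal_fg _).mpr fun I => ?_
  obtain ⟨T, hTs, hT⟩ := Submodule.fg_span_iff_fg_span_finset_subset _ |>.mp
    (IsNoetherian.noetherian (Submodule.span A ((fun z : HomogeneousLocalization 𝒜 M => z.num) ''
      (I : Set (HomogeneousLocalization 𝒜 M)))))
  choose g hgI hg using fun a (ha : a ∈ T) => hTs ha
  refine ⟨T.attach.image fun a => g a.1 a.2, le_antisymm ?_ ?_⟩
  · refine Submodule.span_le.mpr fun z hz => ?_
    obtain ⟨a, -, rfl⟩ := Finset.mem_image.mp hz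
    exact hgI _ _
  intro x hx
  have hmem : x.num ∈ Submodule.span A (T : Set A) := by
    rw [← hT]; exact Submodule.subset_span ⟨x, hx, rfl⟩
  obtain ⟨c, -, hc⟩ := Submodule.mem_span_finset.mp hmem
  have key : ∀ a (ha : a ∈ T), ∃ w : HomogeneousLocalization 𝒜 M,
      valHom 𝒜 M (w * g a ha) =
        IsLocalization.mk' (Localization M) (decompose 𝒜 (c a * a) x.deg : A) ⟨x.den, x.den_mem⟩ := by
    intro a ha
    have hga : (g a ha).num = a := hg a ha
    rw [show (decompose 𝒜 (c a * a) x.deg : A) = if (g a ha).deg ≤ x.deg then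
        (decompose 𝒜 (c a) (x.deg - (g a ha).deg) : A) * a else 0 from
      coe_decompose_mul_of_right_mem 𝒜 x.deg (by simpa only [hga] using (g a ha).num_mem_deg)]
    split_ifs with hle
    · have hnum : (decompose 𝒜 (c a) (x.deg - (g a ha).deg) : A) * (g a ha).den ∈ 𝒜 x.deg := by
        have := SetLike.mul_mem_graded (decompose 𝒜 (c a) (x.deg - (g a ha).deg)).2 (g a ha).den_mem_deg
        rwa [Nat.sub_add_cancel hle] at this
      refine ⟨frac 𝒜 hnum x.den_mem_deg x.den_mem, ?_⟩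
      rw [map_mul, valHom_frac, valHom_eq 𝒜 M (g a ha), ← IsLocalization.mk'_mul, IsLocalization.mk'_eq_iff_eq, hga]
      congr 1
      simp only [Submonoid.coe_mul]
      ring
    · exact ⟨0, by rw [zero_mul, map_zero, IsLocalization.mk'_zero]⟩
  choose w hw using key
  have hxsum : x = ∑ a ∈ T.attach, w a.1 a.2 * g a.1 a.2 := by
    apply valHom_injective 𝒜 M
    rw [map_sum, valHom_eq]
    rw [Finset.sum_congr rfl fun a (_ : a ∈ T.attach) => (hw a.1 a.2).trans
      (IsLocalization.mk'_eq_mul_mk'_one (S := Localization M) _ (⟨x.den, x.den_mem⟩ : M)),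
      IsLocalization.mk'_eq_mul_mk'_one (S := Localization M) x.num (⟨x.den, x.den_mem⟩ : M)]
    rw [← Finset.sum_mul, ← map_sum]
    congr 2
    rw [Finset.sum_attach T (fun a => (decompose 𝒜 (c a * a) x.deg : A))]
    conv_lhs => rw [← decompose_of_mem_same 𝒜 x.num_mem_deg, ← hc]
    simp [decompose_sum]
  rw [hxsum]
  refine Ideal.sum_mem _ fun a _ => Ideal.mul_mem_left _ _ (Submodule.subset_span ?_)
  exact Finset.mem_image.mpr ⟨a, Finset.mem_attach _ _, rfl⟩

end

variable (p : Ideal A) [p.IsPrime]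

theorem isDomain_atPrime [IsDomain (Localization.AtPrime p)] :
    IsDomain (HomogeneousLocalization.AtPrime 𝒜 p) :=
  (valHom_injective 𝒜 p.primeCompl).isDomain _

theorem isIntegrallyClosed_atPrime [IsDomain (Localization.AtPrime p)]
    [IsIntegrallyClosed (Localization.AtPrime p)] :
    IsIntegrallyClosed (HomogeneousLocalization.AtPrime 𝒜 p) := by
  have := isDomain_atPrime 𝒜 p
  let R := HomogeneousLocalization.AtPrime 𝒜 p
  let Ap := Localization.AtPrime p
  let g : R →+* FractionRing Ap := (algebraMap Ap (FractionRing Ap)).comp (valHom 𝒜 p.primeCompl)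
  have hg : Function.Injective g :=
    (IsFractionRing.injective Ap (FractionRing Ap)).comp (valHom_injective 𝒜 p.primeCompl)
  let φ : FractionRing R →+* FractionRing Ap := IsFractionRing.lift hg
  have hφ : ∀ r, φ (algebraMap R (FractionRing R) r) = g r := fun r =>
    IsFractionRing.lift_algebraMap hg r
  refine (isIntegrallyClosed_iff (FractionRing R)).mpr fun {z} hz => ?_
  obtain ⟨P, hP, hP0⟩ := hz
  have hint : IsIntegral Ap (φ z) := by
    refine ⟨P.map (valHom 𝒜 p.primeCompl), hP.map _, ?_⟩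
    rw [Polynomial.eval₂_map]
    have h0 := congrArg φ hP0
    rw [map_zero, Polynomial.hom_eval₂] at h0
    rwa [show φ.comp (algebraMap R (FractionRing R)) = (algebraMap Ap (FractionRing Ap)).comp
      (valHom 𝒜 p.primeCompl) from RingHom.ext hφ] at h0
  obtain ⟨w, hw⟩ := IsIntegrallyClosed.isIntegral_iff.mp hint
  obtain ⟨x, y, hy, rfl⟩ := IsFractionRing.div_surjective (A := R) z
  have hy0 : y ≠ 0 := nonZeroDivisors.ne_zero hy
  have hgy : g y ≠ 0 := (map_ne_zero_iff _ hg).mpr hy0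
  have heq : valHom 𝒜 p.primeCompl x = w * valHom 𝒜 p.primeCompl y := by
    apply IsFractionRing.injective Ap (FractionRing Ap)
    rw [map_mul, hw, map_div₀, hφ, hφ, div_eq_mul_inv, mul_assoc]
    change g x = g x * ((g y)⁻¹ * g y)
    rw [inv_mul_cancel₀ hgy, mul_one]
  obtain ⟨⟨e, s⟩, rfl⟩ := (fun w : Ap => show ∃ q : A × p.primeCompl, IsLocalization.mk' Ap q.1 q.2 = w from
    ⟨IsLocalization.sec p.primeCompl w, IsLocalization.mk'_sec Ap w⟩) w
  rw [valHom_eq, valHom_eq, ← IsLocalization.mk'_mul, IsLocalization.mk'_eq_iff_eq,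
    IsLocalization.eq_iff_exists p.primeCompl] at heq
  obtain ⟨t, ht⟩ := heq
  simp only [Submonoid.coe_mul] at ht
  obtain ⟨k, s', e', hs', he', hs'p, hse⟩ := exists_homogeneous_mul_eq 𝒜 p
    (S := t * s) (E := t * e) (U := x.num * y.den) (W := y.num * x.den)
    (show (t : A) * s ∉ p from (p.primeCompl.mul_mem t.2 s.2 :))
    (SetLike.mul_mem_graded x.num_mem_deg y.den_mem_deg)
    (by rw [add_comm]; exact SetLike.mul_mem_graded y.num_mem_deg x.den_mem_deg)
    (by linear_combination ht)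
  refine ⟨frac 𝒜 he' hs' hs'p, ?_⟩
  have hmul : frac 𝒜 he' hs' hs'p * y = x := by
    apply valHom_injective 𝒜 p.primeCompl
    rw [map_mul, valHom_frac, valHom_eq, valHom_eq, ← IsLocalization.mk'_mul,
      IsLocalization.mk'_eq_iff_eq]
    congr 1
    simp only [Submonoid.coe_mul]
    linear_combination (-1 : A) * hse
  rw [← hmul, map_mul, mul_div_cancel_right₀ _ ((map_ne_zero_iff _
    (IsFractionRing.injective R (FractionRing R))).mpr hy0)]

omit [p.IsPrime] in
theorem isHomogeneous_of_mem_minimalPrimes {q : Ideal A} (hq : q ∈ minimalPrimes A) :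
    q.IsHomogeneous 𝒜 := by
  rw [Ideal.IsHomogeneous.iff_eq]
  exact le_antisymm (Ideal.toIdeal_homogeneousCore_le 𝒜 q)
    (hq.2 ⟨hq.1.1.homogeneousCore, bot_le⟩ (Ideal.toIdeal_homogeneousCore_le 𝒜 q))

omit [p.IsPrime] in
/-- An element of a minimal prime becomes zero after multiplication of a power of it by an element
outside the prime. -/
theorem exists_mul_pow_eq_zero {q : Ideal A} (hq : q ∈ minimalPrimes A) {x : A} (hx : x ∈ q) :
    ∃ s ∉ q, ∃ n : ℕ, s * x ^ n = 0 := by
  have := hq.1.1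
  have : Ring.KrullDimLE 0 (Localization.AtPrime q) :=
    (Ring.krullDimLE_iff).mpr (by
      rw [IsLocalization.AtPrime.ringKrullDim_eq_height q, Ideal.height_eq_zero_iff.mpr hq]; rfl)
  have h : IsNilpotent (algebraMap A (Localization.AtPrime q) x) := by
    rw [Ring.KrullDimLE.isNilpotent_iff_mem_nonunits, mem_nonunits_iff,
      IsLocalization.AtPrime.isUnit_to_map_iff (Localization.AtPrime q) q]
    exact fun h => h hx
  obtain ⟨n, hn⟩ := h
  rw [← map_pow, IsLocalization.map_eq_zero_iff q.primeCompl] at hn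
  obtain ⟨s, hs⟩ := hn
  exact ⟨s, s.2, n, hs⟩

/-- `A_(p)` satisfies (S₁) if `A` does and `p` is relevant. -/
theorem hasSk_one_atPrime [IsNoetherianRing A] (hA : LocCoh.HasSk 1 A A) {f : A} {d : ℕ}
    (hd : 0 < d) (hf : f ∈ 𝒜 d) (hfp : f ∉ p) :
    LocCoh.HasSk 1 (HomogeneousLocalization.AtPrime 𝒜 p)
      (HomogeneousLocalization.AtPrime 𝒜 p) := by
  have := isNoetherianRing 𝒜 p.primeCompl
  have : IsNoetherianRing (Localization.AtPrime p) :=
    IsLocalization.isNoetherianRing p.primeCompl _ inferInstance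
  refine SerreLib.hasSk_one_of_associatedPrimes fun Q hQ => ?_
  obtain ⟨hQp, x, hx⟩ := isAssociatedPrime_iff.mp (AssociatedPrimes.mem_iff.mp hQ)
  have hx0 : x ≠ 0 := fun h0 => hQp.ne_top (hx.trans (eq_top_iff.mpr fun r _ => by
    rw [Submodule.mem_colon_singleton, h0, smul_zero]; exact zero_mem _))
  obtain ⟨P', hP', hle⟩ := exists_le_isAssociatedPrime_of_isNoetherianRing (Localization.AtPrime p)
    (valHom 𝒜 p.primeCompl x) ((map_ne_zero_iff _ (valHom_injective 𝒜 p.primeCompl)).mpr hx0)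
  have hP'p := hP'.isPrime
  set P0 := P'.comap (algebraMap A (Localization.AtPrime p)) with hP0def
  have hP0 : P0 ∈ associatedPrimes A A := by
    rw [hP0def, ← Set.mem_preimage (f := Ideal.comap (algebraMap A (Localization.AtPrime p))),
      Module.associatedPrimes.preimage_comap_associatedPrimes_eq_associatedPrimes_of_isLocalizedModule
        p.primeCompl (Localization.AtPrime p) (Algebra.linearMap A (Localization.AtPrime p))]
    exact hP'
  have hmin : P0 ∈ minimalPrimes A := by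
    have := hP0.isPrime
    exact Ideal.height_eq_zero_iff.mp (SerreLib.height_eq_zero_of_hasSk_one hA hP0)
  have hP0hom := isHomogeneous_of_mem_minimalPrimes 𝒜 hmin
  have hmemiff : ∀ r, valHom 𝒜 p.primeCompl r ∈ P' ↔ r.num ∈ P0 := fun r => by
    rw [valHom_eq, IsLocalization.mk'_mem_iff]; rfl
  set Q0 := P'.comap (valHom 𝒜 p.primeCompl) with hQ0
  have hQQ0 : Q ≤ Q0 := fun r hr => hle (by
    rw [hx, Submodule.mem_colon_singleton, Submodule.mem_bot, smul_eq_mul] at hr
    rw [Submodule.mem_colon_singleton, Submodule.mem_bot, smul_eq_mul, ← map_mul, hr, map_zero])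
  have hQ0min : ∀ Q' : Ideal (HomogeneousLocalization.AtPrime 𝒜 p), Q'.IsPrime → Q' ≤ Q0 → Q0 ≤ Q' := by
    intro Q' hQ' hle' r hr
    obtain ⟨S, hS, n, hSn⟩ := exists_mul_pow_eq_zero hmin ((hmemiff r).mp hr)
    obtain ⟨k, hk⟩ := exists_component_not_mem 𝒜 P0 hS
    have hk0 : (decompose 𝒜 S k : A) * r.num ^ n = 0 := by
      rw [← proj_mul_right 𝒜 S (SetLike.pow_mem_graded n r.num_mem_deg) k, hSn, decompose_zero]
      rfl
    have hnum : (decompose 𝒜 S k : A) ^ d ∈ 𝒜 (d * k) :=
      SetLike.pow_mem_graded d (decompose 𝒜 S k).2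
    have hden : f ^ k ∈ 𝒜 (d * k) := mul_comm k d ▸ SetLike.pow_mem_graded k hf
    have hfk : f ^ k ∈ p.primeCompl := pow_mem (hfp : f ∈ p.primeCompl) k
    have hzero : frac 𝒜 hnum hden hfk * r ^ n = 0 := by
      apply valHom_injective 𝒜 p.primeCompl
      rw [map_zero, map_mul, map_pow, valHom_frac, valHom_eq, ← IsLocalization.mk'_pow,
        ← IsLocalization.mk'_mul]
      obtain ⟨d', rfl⟩ : ∃ d', d = d' + 1 := ⟨d - 1, by omega⟩
      rw [pow_succ, mul_assoc, hk0, mul_zero, IsLocalization.mk'_zero]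
    have he : frac 𝒜 hnum hden hfk ∉ Q0 := by
      rw [hQ0, Ideal.mem_comap, valHom_frac, IsLocalization.mk'_mem_iff]
      exact fun h => hk (hmin.1.1.mem_of_pow_mem d h)
    exact hQ'.mem_of_pow_mem n
      ((hQ'.mem_or_mem (hzero ▸ Q'.zero_mem)).resolve_left fun h => he (hle' h))
  have heq : Q = Q0 := le_antisymm hQQ0 (hQ0min Q hQp hQQ0)
  exact Ideal.height_eq_zero_iff.mpr ⟨⟨hQp, bot_le⟩, fun Q' hQ' hle' =>
    heq ▸ hQ0min Q' hQ'.1 (hle'.trans hQQ0)⟩

theorem exists_pos_degree_not_mem {q : Ideal A}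
    (h : ¬ (HomogeneousIdeal.irrelevant 𝒜).toIdeal ≤ q) :
    ∃ (f : A) (d : ℕ), 0 < d ∧ f ∈ 𝒜 d ∧ f ∉ q := by
  obtain ⟨a, ha, haq⟩ := SetLike.not_le_iff_exists.mp h
  obtain ⟨k, hk⟩ := exists_component_not_mem 𝒜 q haq
  refine ⟨_, k, Nat.pos_of_ne_zero ?_, SetLike.coe_mem _, hk⟩
  rintro rfl
  have ha : GradedRing.proj 𝒜 0 a = 0 := ha
  rw [GradedRing.proj_apply] at ha
  exact hk (ha ▸ q.zero_mem)

end Groth.Agent.ProjStalkLib
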