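import Groth.Agent.ProjStalkLib.Basic
import Groth.Agent.NITCharPLib.Main
import Groth.Agent.LocCohLib.CMSop
import Groth.Agent.CMGraded.FlatCM

/-!
# Homogeneous localizations inherit Cohen–Macaulayness
-/

universe u

open DirectSum HomogeneousLocalization IsLocalRing RingTheory.Sequence
open scoped Pointwise

set_option linter.style.haveILetI false
set_option autoImplicit false

namespace Groth.Agent.ProjStalkLib

variable {A : Type u} [CommRing A] (𝒜 : ℕ → AddSubgroup A) [GradedRing 𝒜] (p : Ideal A) [p.IsPrime]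
  {f : A} {d : ℕ}

/-- An ideal of `A_(p)` is the contraction of its extension to `A_p`. -/
theorem mem_of_valHom_mem_map (hd : 0 < d) (hf : f ∈ 𝒜 d) (hfp : f ∉ p)
    (J : Ideal (HomogeneousLocalization.AtPrime 𝒜 p)) {y : HomogeneousLocalization.AtPrime 𝒜 p}
    (hy : valHom 𝒜 p.primeCompl y ∈ J.map (valHom 𝒜 p.primeCompl)) : y ∈ J := by
  classical
  let N : Ideal A := Ideal.span ((fun z : HomogeneousLocalization.AtPrime 𝒜 p => z.num) '' (J : Set _))
  have hle : J.map (valHom 𝒜 p.primeCompl) ≤ N.map (algebraMap A (Localization.AtPrime p)) := by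
    refine Ideal.map_le_iff_le_comap.2 fun z hz => ?_
    rw [Ideal.mem_comap, valHom_eq, IsLocalization.mk'_eq_mul_mk'_one]
    exact Ideal.mul_mem_right _ _ (Ideal.mem_map_of_mem _ (Ideal.subset_span ⟨z, hz, rfl⟩))
  have hy' : algebraMap A (Localization.AtPrime p) y.num ∈ N.map (algebraMap A (Localization.AtPrime p)) := by
    have h := hle hy
    rw [valHom_eq] at h
    rw [← IsLocalization.mk'_spec (Localization.AtPrime p) y.num (⟨y.den, y.den_mem⟩ : p.primeCompl)]
    exact Ideal.mul_mem_right _ _ h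
  rw [IsLocalization.algebraMap_mem_map_algebraMap_iff p.primeCompl] at hy'
  obtain ⟨S, hS, hSy⟩ := hy'
  obtain ⟨n, c, g, hg⟩ := Submodule.mem_span_set'.1 hSy
  choose x hxJ hx using fun i => (g i).2
  obtain ⟨k, hk⟩ := exists_component_not_mem 𝒜 p (show S ∉ p from hS)
  have hxg : ∀ i, (x i).num = (g i).1 := hx
  set Sk : A := (decompose 𝒜 S k : A) with hSk
  have hSkm : Sk ∈ 𝒜 k := SetLike.coe_mem _
  have hden : f ^ k ∈ 𝒜 (d * k) := mul_comm k d ▸ SetLike.pow_mem_graded k hf
  have hfk : f ^ k ∈ p.primeCompl := pow_mem (hfp : f ∈ p.primeCompl) k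
  let u : HomogeneousLocalization.AtPrime 𝒜 p := frac 𝒜 (SetLike.pow_mem_graded d hSkm : Sk ^ d ∈ 𝒜 (d * k)) hden hfk
  have hu : IsUnit u := by
    rw [← HomogeneousLocalization.isUnit_iff_isUnit_val]
    show IsUnit (valHom 𝒜 p.primeCompl u)
    rw [valHom_frac, IsLocalization.AtPrime.isUnit_mk'_iff]
    exact fun h => hk ((inferInstance : p.IsPrime).mem_of_pow_mem d h)
  have key : Sk * y.num = ∑ i, (if (x i).deg ≤ k + y.deg then
      (decompose 𝒜 (c i) (k + y.deg - (x i).deg) : A) * (g i).1 else 0) := by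
    rw [hSk, ← proj_mul_right 𝒜 S y.num_mem_deg k, ← hg, decompose_sum]
    rw [DFinsupp.finsetSum_apply, AddSubmonoidClass.coe_finsetSum]
    refine Finset.sum_congr rfl fun i _ => ?_
    rw [smul_eq_mul]
    exact coe_decompose_mul_of_right_mem 𝒜 (k + y.deg) (hxg i ▸ (x i).num_mem_deg)
  have hw : ∀ i, ∃ w : HomogeneousLocalization.AtPrime 𝒜 p, valHom 𝒜 p.primeCompl (w * x i) =
      IsLocalization.mk' (Localization.AtPrime p) (Sk ^ (d - 1) * (if (x i).deg ≤ k + y.deg then
        (decompose 𝒜 (c i) (k + y.deg - (x i).deg) : A) * (g i).1 else 0))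
        (⟨f ^ k, hfk⟩ * ⟨y.den, y.den_mem⟩ : p.primeCompl) := fun i => by
    split_ifs with hi
    · have hnum : Sk ^ (d - 1) * ((decompose 𝒜 (c i) (k + y.deg - (x i).deg) : A) * (x i).den) ∈ 𝒜 (d * k + y.deg) := by
        have h := SetLike.mul_mem_graded (SetLike.pow_mem_graded (d - 1) hSkm)
          (SetLike.mul_mem_graded (decompose 𝒜 (c i) (k + y.deg - (x i).deg)).2 (x i).den_mem_deg)
        convert h using 2
        rw [Nat.sub_add_cancel hi, smul_eq_mul]
        obtain ⟨d', rfl⟩ : ∃ d', d = d' + 1 := ⟨d - 1, by omega⟩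
        rw [add_tsub_cancel_right]
        ring
      refine ⟨frac 𝒜 hnum (SetLike.mul_mem_graded hden y.den_mem_deg) (mul_mem hfk y.den_mem), ?_⟩
      rw [map_mul, valHom_frac, valHom_eq 𝒜 _ (x i), ← IsLocalization.mk'_mul, IsLocalization.mk'_eq_iff_eq, hxg i]
      congr 1
      simp only [Submonoid.coe_mul]
      ring
    · exact ⟨0, by rw [zero_mul, map_zero, mul_zero, IsLocalization.mk'_zero]⟩
  choose w hw using hw
  have huy : u * y = ∑ i, w i * x i := by
    apply valHom_injective 𝒜 p.primeCompl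
    rw [map_sum, map_mul, valHom_frac, valHom_eq, ← IsLocalization.mk'_mul]
    rw [Finset.sum_congr rfl fun i (_ : i ∈ Finset.univ) => (hw i).trans
      (IsLocalization.mk'_eq_mul_mk'_one (S := Localization.AtPrime p) _ (⟨f ^ k, hfk⟩ * ⟨y.den, y.den_mem⟩ : p.primeCompl)),
      IsLocalization.mk'_eq_mul_mk'_one]
    rw [← Finset.sum_mul, ← map_sum, ← Finset.mul_sum, ← key]
    congr 2
    obtain ⟨d', rfl⟩ : ∃ d', d = d' + 1 := ⟨d - 1, by omega⟩
    rw [add_tsub_cancel_right, pow_succ]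
    ring
  refine (Ideal.unit_mul_mem_iff_mem J hu).1 (huy ▸ ?_)
  exact J.sum_mem fun i _ => J.mul_mem_left _ (hxJ i)

theorem exists_homogeneous_prime (hp : p.IsHomogeneous 𝒜) (hd : 0 < d) (hf : f ∈ 𝒜 d) (hfp : f ∉ p)
    (Q : Ideal (HomogeneousLocalization.AtPrime 𝒜 p)) [Q.IsPrime] :
    ∃ P : Ideal A, P.IsPrime ∧ P.IsHomogeneous 𝒜 ∧ P ≤ p ∧ ∀ r, r ∈ Q ↔ r.num ∈ P := by
  obtain ⟨P', hP'⟩ := (PrimeSpectrum.mem_range_comap_iff (f := valHom 𝒜 p.primeCompl) (p := ⟨Q, inferInstance⟩)).2
    (le_antisymm (fun y hy => mem_of_valHom_mem_map 𝒜 p hd hf hfp Q hy) Ideal.le_comap_map)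
  let P0 := P'.asIdeal.comap (algebraMap A (Localization.AtPrime p))
  refine ⟨(P0.homogeneousCore 𝒜).toIdeal, Ideal.IsPrime.homogeneousCore (inferInstance : P0.IsPrime),
    (P0.homogeneousCore 𝒜).isHomogeneous, (Ideal.toIdeal_homogeneousCore_le 𝒜 P0).trans ?_, fun r => ?_⟩
  · intro a ha
    by_contra hap
    exact P'.isPrime.ne_top (Ideal.eq_top_of_isUnit_mem _ ha
      (IsLocalization.map_units (Localization.AtPrime p) (⟨a, hap⟩ : p.primeCompl)))
  · have h1 : Q = P'.asIdeal.comap (valHom 𝒜 p.primeCompl) := (congrArg PrimeSpectrum.asIdeal hP').symm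
    rw [h1, Ideal.mem_comap, valHom_eq, IsLocalization.mk'_mem_iff]
    exact ⟨fun h => Ideal.mem_homogeneousCore_of_homogeneous_of_mem ⟨_, r.num_mem_deg⟩ h,
      fun h => Ideal.toIdeal_homogeneousCore_le 𝒜 P0 h⟩

theorem ringKrullDim_le_atPrime (hp : p.IsHomogeneous 𝒜) (hd : 0 < d) (hf : f ∈ 𝒜 d) (hfp : f ∉ p) :
    ringKrullDim (HomogeneousLocalization.AtPrime 𝒜 p) ≤ ringKrullDim (Localization.AtPrime p) := by
  choose P hP hPh hPle hPiff using fun Q : PrimeSpectrum (HomogeneousLocalization.AtPrime 𝒜 p) =>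
    exists_homogeneous_prime 𝒜 p hp hd hf hfp Q.asIdeal
  have hdisj : ∀ Q, Disjoint (p.primeCompl : Set A) (P Q : Set A) := fun Q =>
    Set.disjoint_left.2 fun a ha haP => ha (hPle Q haP)
  have hcm : ∀ Q, ((P Q).map (algebraMap A (Localization.AtPrime p))).comap (algebraMap A _) = P Q := fun Q =>
    IsLocalization.under_map_of_isPrime_disjoint p.primeCompl _ (hP Q) (hdisj Q)
  refine Order.krullDim_le_of_strictMono
    (fun Q => (⟨(P Q).map (algebraMap A (Localization.AtPrime p)),
      IsLocalization.isPrime_of_isPrime_disjoint p.primeCompl _ _ (hP Q) (hdisj Q)⟩ : PrimeSpectrum (Localization.AtPrime p)))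
    fun Q₁ Q₂ hlt => ?_
  have hmono : P Q₁ ≤ P Q₂ := by
    classical
    intro a ha
    rw [← DirectSum.sum_support_decompose 𝒜 a]
    refine (P Q₂).sum_mem fun e _ => ?_
    have hae : (decompose 𝒜 a e : A) ∈ P Q₁ := hPh Q₁ e ha
    set ae : A := (decompose 𝒜 a e : A)
    let r : HomogeneousLocalization.AtPrime 𝒜 p := frac 𝒜
      (show ae ^ d ∈ 𝒜 (d * e) from SetLike.pow_mem_graded d (show ae ∈ 𝒜 e from SetLike.coe_mem _))
      (mul_comm e d ▸ SetLike.pow_mem_graded e hf : f ^ e ∈ 𝒜 (d * e)) (pow_mem (hfp : f ∈ p.primeCompl) e)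
    have key : ∀ Q, r ∈ Q.asIdeal ↔ ae ∈ P Q := fun Q => by
      haveI := hP Q
      have h := hPiff Q r
      rw [h]
      have h2 : IsLocalization.mk' (Localization.AtPrime p) r.num (⟨r.den, r.den_mem⟩ : p.primeCompl) =
          IsLocalization.mk' (Localization.AtPrime p) (ae ^ d) (⟨f ^ e, pow_mem (hfp : f ∈ p.primeCompl) e⟩ : p.primeCompl) := by
        rw [← valHom_eq, valHom_frac]
      obtain ⟨t, ht⟩ := IsLocalization.eq.1 h2
      constructor
      · intro hr
        refine (hP Q).mem_of_pow_mem d ?_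
        have h3 : (t : A) * (r.den * ae ^ d) ∈ P Q := by
          have : (t : A) * (f ^ e * r.num) ∈ P Q := (P Q).mul_mem_left _ ((P Q).mul_mem_left _ hr)
          rwa [ht] at this
        exact ((hP Q).mem_or_mem (((hP Q).mem_or_mem h3).resolve_left fun h => t.2 (hPle Q h))).resolve_left
          fun h => r.den_mem (hPle Q h)
      · intro hae
        have h3 : (t : A) * (f ^ e * r.num) ∈ P Q := by
          rw [ht]
          exact (P Q).mul_mem_left _ ((P Q).mul_mem_left _ (Ideal.pow_mem_of_mem _ hae d hd))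
        exact ((hP Q).mem_or_mem (((hP Q).mem_or_mem h3).resolve_left fun h => t.2 (hPle Q h))).resolve_left
          fun h => hfp ((inferInstance : p.IsPrime).mem_of_pow_mem e (hPle Q h))
    exact (key Q₂).1 (hlt.le ((key Q₁).2 hae))
  refine lt_of_le_not_ge (Ideal.map_mono hmono) fun hge => hlt.not_ge ?_
  intro r hr
  rw [hPiff] at hr ⊢
  have := Ideal.mem_comap.1 ((Ideal.comap_mono hge) ((hcm Q₂).symm ▸ hr))
  rw [← hcm Q₁]
  exact this

/-- `A_(p)` is Cohen–Macaulay if `A_p` is, for a relevant homogeneous prime `p`. -/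
theorem isCohenMacaulayLocalRing_atPrime [IsNoetherianRing A] [LocCoh.IsCohenMacaulayLocalRing (Localization.AtPrime p)]
    (hp : p.IsHomogeneous 𝒜) (hd : 0 < d) (hf : f ∈ 𝒜 d) (hfp : f ∉ p) :
    LocCoh.IsCohenMacaulayLocalRing (HomogeneousLocalization.AtPrime 𝒜 p) := by
  classical
  haveI := isNoetherianRing 𝒜 p.primeCompl
  haveI : IsNoetherianRing (HomogeneousLocalization.AtPrime 𝒜 p) := isNoetherianRing 𝒜 p.primeCompl
  set R0 := HomogeneousLocalization.AtPrime 𝒜 p
  set v := valHom 𝒜 p.primeCompl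
  obtain ⟨k, hk⟩ : ∃ k : ℕ, ringKrullDim R0 = k := by
    obtain ⟨n, hn⟩ := ENat.ne_top_iff_exists.mp (Ideal.height_ne_top (I := maximalIdeal R0) (maximalIdeal.isMaximal _).ne_top)
    exact ⟨n, by rw [← maximalIdeal_height_eq_ringKrullDim, ← hn]; rfl⟩
  obtain ⟨b, hb⟩ := NITCharPLib.exists_sop hk
  have hrad : (Ideal.span (Set.range fun i => v (b i))).radical = maximalIdeal (Localization.AtPrime p) := by
    have hm : maximalIdeal R0 = (maximalIdeal (Localization.AtPrime p)).comap v := by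
      ext r
      rw [Ideal.mem_comap, mem_maximalIdeal, mem_maximalIdeal, mem_nonunits_iff, mem_nonunits_iff, not_iff_not]
      exact (HomogeneousLocalization.isUnit_iff_isUnit_val 𝒜 p r).symm
    refine le_antisymm ((maximalIdeal.isMaximal _).isPrime.radical_le_iff.2 (Ideal.span_le.2 ?_)) ?_
    · rintro _ ⟨i, rfl⟩
      exact hm.le (hb.1 i)
    · rw [← Localization.AtPrime.map_eq_maximalIdeal, Ideal.map_le_iff_le_comap]
      intro a ha
      rw [← DirectSum.sum_support_decompose 𝒜 a]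
      refine Ideal.sum_mem _ fun e _ => ?_
      have hae : (decompose 𝒜 a e : A) ∈ p := hp e ha
      set ae : A := (decompose 𝒜 a e : A)
      let r : R0 := frac 𝒜 (show ae ^ d ∈ 𝒜 (d * e) from SetLike.pow_mem_graded d (show ae ∈ 𝒜 e from SetLike.coe_mem _))
        (mul_comm e d ▸ SetLike.pow_mem_graded e hf : f ^ e ∈ 𝒜 (d * e)) (pow_mem (hfp : f ∈ p.primeCompl) e)
      have hr : r ∈ (Ideal.span (Set.range b)).radical := by
        refine hb.2 ?_
        rw [hm, Ideal.mem_comap, valHom_frac, IsLocalization.AtPrime.mk'_mem_maximal_iff (Localization.AtPrime p) p]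
        exact Ideal.pow_mem_of_mem _ hae d hd
      obtain ⟨n, hn⟩ := hr
      have h1 : v r ^ n ∈ Ideal.span (Set.range fun i => v (b i)) := by
        rw [← map_pow]
        have := Ideal.mem_map_of_mem v hn
        rwa [Ideal.map_span, ← Set.range_comp] at this
      rw [valHom_frac, IsLocalization.mk'_eq_mul_mk'_one, mul_pow, ← map_pow, ← pow_mul] at h1
      rw [Ideal.mem_comap]
      refine ⟨d * n, ?_⟩
      rw [← map_pow]
      exact (Ideal.mul_unit_mem_iff_mem _ (((IsUnit.of_mul_eq_one _ ((IsLocalization.mk'_spec _ (1 : A) _).trans (map_one _))).pow n))).1 h1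
  have hdim : ringKrullDim (Localization.AtPrime p) = k := by
    refine le_antisymm ?_ (hk ▸ ringKrullDim_le_atPrime 𝒜 p hp hd hf hfp)
    haveI : IsNoetherianRing (Localization.AtPrime p) := IsLocalization.isNoetherianRing p.primeCompl _ inferInstance
    let T : Finset (Localization.AtPrime p) := Finset.univ.image fun i => v (b i)
    have hT : Ideal.span (T : Set (Localization.AtPrime p)) = Ideal.span (Set.range fun i => v (b i)) := by
      rw [Finset.coe_image, Finset.coe_univ, Set.image_univ]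
    have hmin : maximalIdeal (Localization.AtPrime p) ∈ (Ideal.span (T : Set (Localization.AtPrime p))).minimalPrimes := by
      rw [hT]
      refine ⟨⟨(maximalIdeal.isMaximal _).isPrime, Ideal.le_radical.trans hrad.le⟩, fun Q hQ _ => ?_⟩
      rw [← hrad]
      exact hQ.1.radical_le_iff.2 hQ.2
    rw [← maximalIdeal_height_eq_ringKrullDim]
    exact WithBot.coe_le_coe.2 ((Ideal.height_le_card_of_mem_minimalPrimes_span_finset hmin).trans
      (by exact_mod_cast (Finset.card_image_le.trans (by simp))))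
  have hreg := LocCohLib.isWeaklyRegular_of_sop hdim (b := fun i => v (b i)) hrad
  refine CMGraded.isCohenMacaulayLocalRing_of_seq (rs := List.ofFn b) (fun r hr => ?_) ⟨fun i hi => ?_⟩ (by rw [List.length_ofFn]; exact hk.le)
  · obtain ⟨i, rfl⟩ := List.mem_ofFn.1 hr
    exact hb.1 i
  · rw [isSMulRegular_quotient_iff_mem_of_smul_mem]
    intro x hx
    have hi' : i < (List.ofFn fun j => v (b j)).length := by simpa using hi
    have h2 := (isSMulRegular_quotient_iff_mem_of_smul_mem _ _).1 (hreg.regular_mod_prev i hi')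
    rw [smul_eq_mul, Ideal.mul_top] at hx ⊢
    simp only [smul_eq_mul, Ideal.mul_top] at h2
    refine mem_of_valHom_mem_map 𝒜 p hd hf hfp _ ?_
    have hmap : (Ideal.ofList ((List.ofFn b).take i)).map v = Ideal.ofList ((List.ofFn fun j => v (b j)).take i) := by
      rw [Ideal.map_ofList, List.map_take, List.map_ofFn]
      rfl
    rw [hmap]
    refine h2 (v x) ?_
    have := Ideal.mem_map_of_mem v hx
    rw [hmap, smul_eq_mul, map_mul] at this
    simpa using this

end Groth.Agent.ProjStalkLib
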