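import Groth.Agent.ProjStalkLib.CM

/-!
# `A_(p) → A_p` is flat when `A_p` has homogeneous units in two consecutive degrees
-/

universe u

open DirectSum HomogeneousLocalization IsLocalRing

set_option linter.style.haveILetI false
set_option autoImplicit false

namespace Groth.Agent.ProjStalkLib

variable {A : Type u} [CommRing A] (𝒜 : ℕ → AddSubgroup A) [GradedRing 𝒜] (p : Ideal A) [p.IsPrime]

/-- Finitely many elements of `A_(p)` have a common homogeneous denominator. -/
theorem exists_common_den {ι : Type*} (r : ι → HomogeneousLocalization.AtPrime 𝒜 p) (s : Finset ι) :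
    ∃ (E : ℕ) (D : A) (hD : D ∈ 𝒜 E) (hDp : D ∈ p.primeCompl) (n : ι → A), ∀ i ∈ s, n i ∈ 𝒜 E ∧
      valHom 𝒜 p.primeCompl (r i) = IsLocalization.mk' (Localization.AtPrime p) (n i) ⟨D, hDp⟩ := by
  classical
  induction s using Finset.induction_on with
  | empty => exact ⟨0, 1, SetLike.one_mem_graded _, one_mem _, fun _ => 0, by simp⟩
  | insert a s ha ih =>
    obtain ⟨E, D, hD, hDp, n, hn⟩ := ih
    refine ⟨E + (r a).deg, D * (r a).den, SetLike.mul_mem_graded hD (r a).den_mem_deg,
      mul_mem hDp (r a).den_mem, fun i => if i = a then D * (r a).num else n i * (r a).den, fun i hi => ?_⟩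
    dsimp only
    split_ifs with h
    · subst h
      refine ⟨SetLike.mul_mem_graded hD (r i).num_mem_deg, ?_⟩
      rw [valHom_eq, IsLocalization.mk'_eq_iff_eq]
      congr 1
      ring
    · obtain ⟨h1, h2⟩ := hn i ((Finset.mem_insert.1 hi).resolve_left h)
      refine ⟨SetLike.mul_mem_graded h1 (r a).den_mem_deg, ?_⟩
      rw [h2, IsLocalization.mk'_eq_iff_eq]
      congr 1
      ring

/-- `A_(p) → A_p` is flat if there are homogeneous `f`, `g` outside `p` of consecutive degrees. -/
theorem flat_atPrime {d : ℕ} {f g : A} (hf : f ∈ 𝒜 d) (hg : g ∈ 𝒜 (d + 1)) (hfp : f ∈ p.primeCompl)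
    (hgp : g ∈ p.primeCompl) :
    Module.Flat (HomogeneousLocalization.AtPrime 𝒜 p) (Localization.AtPrime p) := by
  classical
  refine Module.Flat.of_forall_isTrivialRelation fun {l r x} hrel => ?_
  obtain ⟨E, D, hD, hDp, n, hn⟩ := exists_common_den 𝒜 p r Finset.univ
  obtain ⟨s, hs⟩ := IsLocalization.exist_integer_multiples p.primeCompl Finset.univ x
  choose a ha using fun i => hs i (Finset.mem_univ i)
  have hx : ∀ i, x i = IsLocalization.mk' (Localization.AtPrime p) (a i) s := fun i => by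
    rw [IsLocalization.eq_mk'_iff_mul_eq, mul_comm, ha i, Algebra.smul_def]
  have hsum : ∑ i, IsLocalization.mk' (Localization.AtPrime p) (n i * a i) ((⟨D, hDp⟩ : p.primeCompl) * s) = 0 := by
    rw [← hrel]
    refine Finset.sum_congr rfl fun i _ => ?_
    rw [IsLocalization.mk'_mul, ← (hn i (Finset.mem_univ i)).2, ← hx i, Algebra.smul_def]
    rfl
  rw [Finset.sum_congr rfl fun i (_ : i ∈ (Finset.univ : Finset (Fin l))) =>
    IsLocalization.mk'_eq_mul_mk'_one (S := Localization.AtPrime p) (n i * a i) ((⟨D, hDp⟩ : p.primeCompl) * s),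
    ← Finset.sum_mul, ← map_sum] at hsum
  rw [← IsLocalization.mk'_eq_mul_mk'_one, IsLocalization.mk'_eq_zero_iff] at hsum
  obtain ⟨u, hu⟩ := hsum
  let b : Fin l → A := fun i => (u : A) * a i
  have hb : ∀ k, ∑ i, n i * (decompose 𝒜 (b i) k : A) = 0 := fun k => by
    have h0 : (decompose 𝒜 (∑ i, b i * n i) (k + E) : A) = 0 := by
      have : ∑ i, b i * n i = 0 := by
        rw [← hu, Finset.mul_sum]
        exact Finset.sum_congr rfl fun i _ => by ring
      rw [this, decompose_zero]
      rfl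
    rw [decompose_sum, DFinsupp.finsetSum_apply, AddSubmonoidClass.coe_finsetSum] at h0
    rw [← h0]
    refine Finset.sum_congr rfl fun i _ => ?_
    rw [proj_mul_right 𝒜 (b i) (hn i (Finset.mem_univ i)).1 k, mul_comm]
  obtain ⟨K, hK⟩ : ∃ K : ℕ, ∀ i, ∀ k, K ≤ k → (decompose 𝒜 (b i) k : A) = 0 := by
    refine ⟨(Finset.univ.biUnion fun i => (decompose 𝒜 (b i)).support).sup id + 1, fun i k hk => ?_⟩
    by_contra h
    have hmem : k ∈ Finset.univ.biUnion fun i => (decompose 𝒜 (b i)).support :=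
      Finset.mem_biUnion.2 ⟨i, Finset.mem_univ i, DFinsupp.mem_support_toFun _ _ |>.2 fun h' => h (by rw [h']; rfl)⟩
    have := Finset.le_sup (f := id) hmem
    simp only [id_eq] at this
    omega
  have hbsum : ∀ i, ∑ k : Fin K, (decompose 𝒜 (b i) k : A) = b i := fun i => by
    rw [Fin.sum_univ_eq_sum_range (fun k => (decompose 𝒜 (b i) k : A))]
    conv_rhs => rw [← DirectSum.sum_support_decompose 𝒜 (b i)]
    refine (Finset.sum_subset (fun k hk => ?_) (fun k _ hk => ?_)).symm
    · by_contra h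
      exact (DFinsupp.mem_support_toFun _ _).1 hk (Subtype.ext (hK i k (by simpa using h)))
    · rw [DFinsupp.notMem_support_iff.1 hk]
      rfl
  have hdeg : ∀ (i : Fin l) (k : ℕ), (decompose 𝒜 (b i) k : A) * f ^ k ∈ 𝒜 (k * (d + 1)) := fun i k => by
    have h := SetLike.mul_mem_graded (decompose 𝒜 (b i) k).2 (SetLike.pow_mem_graded k hf)
    rwa [show k + k • d = k * (d + 1) by rw [smul_eq_mul]; ring] at h
  have hgk : ∀ k : ℕ, g ^ k ∈ 𝒜 (k * (d + 1)) := fun k => SetLike.pow_mem_graded k hg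
  refine ⟨K, fun i k => frac 𝒜 (hdeg i k) (hgk k) (pow_mem hgp k),
    fun k => IsLocalization.mk' (Localization.AtPrime p) (g ^ (k : ℕ))
      (⟨f ^ (k : ℕ), pow_mem hfp k⟩ * u * s : p.primeCompl), fun i => ?_, fun k => ?_⟩
  · have hterm : ∀ k : Fin K, frac 𝒜 (hdeg i k) (hgk k) (pow_mem hgp k) •
        IsLocalization.mk' (Localization.AtPrime p) (g ^ (k : ℕ)) (⟨f ^ (k : ℕ), pow_mem hfp k⟩ * u * s : p.primeCompl) =
        IsLocalization.mk' (Localization.AtPrime p) (decompose 𝒜 (b i) k : A) (u * s : p.primeCompl) := fun k => by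
      rw [Algebra.smul_def]
      show valHom 𝒜 p.primeCompl _ * _ = _
      rw [valHom_frac, ← IsLocalization.mk'_mul, IsLocalization.mk'_eq_iff_eq]
      congr 1
      simp only [Submonoid.coe_mul]
      ring
    rw [Finset.sum_congr rfl fun k _ => hterm k, Finset.sum_congr rfl fun k (_ : k ∈ (Finset.univ : Finset (Fin K))) =>
      IsLocalization.mk'_eq_mul_mk'_one (S := Localization.AtPrime p) _ (u * s : p.primeCompl),
      ← Finset.sum_mul, ← map_sum, hbsum, ← IsLocalization.mk'_eq_mul_mk'_one, hx, IsLocalization.mk'_eq_iff_eq]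
    congr 1
    simp only [b, Submonoid.coe_mul]
    ring
  · apply valHom_injective 𝒜 p.primeCompl
    rw [map_sum, map_zero]
    have hterm : ∀ i, valHom 𝒜 p.primeCompl (r i * frac 𝒜 (hdeg i k) (hgk k) (pow_mem hgp k)) =
        algebraMap A _ (n i * (decompose 𝒜 (b i) k : A)) *
          IsLocalization.mk' (Localization.AtPrime p) (f ^ (k : ℕ)) (⟨D, hDp⟩ * ⟨g ^ (k : ℕ), pow_mem hgp k⟩ : p.primeCompl) := fun i => by
      rw [map_mul, valHom_frac, (hn i (Finset.mem_univ i)).2, ← IsLocalization.mk'_mul, ← IsLocalization.mk'_one (M := p.primeCompl) (Localization.AtPrime p) (n i * _),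
        ← IsLocalization.mk'_mul]
      congr 1
      · ring
      · rw [one_mul]
    rw [Finset.sum_congr rfl fun i _ => hterm i, ← Finset.sum_mul, ← map_sum, hb, map_zero, zero_mul]

theorem isLocalHom_valHom : IsLocalHom (valHom 𝒜 p.primeCompl) :=
  ⟨fun r hr => (HomogeneousLocalization.isUnit_iff_isUnit_val 𝒜 p r).1 hr⟩

end Groth.Agent.ProjStalkLib
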